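import Cfsg.Agent.H58.Rec.Kill
import Cfsg.Agent.H904.McLCent

/-!
# Recognition by spectrum: `3^2:8` and an element of order 9 in `McL` (helper16)

* `hasFrob_three_eight` : a Frobenius group `3^2:8` from relations;
* `mcl_frob38`, `mcl_nine`.
-/

set_option autoImplicit false

namespace Cfsg.Agent.H16.Rec

open Subgroup Cfsg Cfsg.Agent.H58.Rec

/-- **`3^2:8`** : `c a c⁻¹ = b`, `c b c⁻¹ = a b`, `[a, b] = 1`, `a ^ 3 = 1`, `c ^ 8 = 1`. -/
theorem hasFrob_three_eight {X : Type*} [Group X] {a b c : X} (ha : a ^ 3 = 1) (ha1 : a ≠ 1) (hab : a * b = b * a)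
    (h1 : c * a = b * c) (h2 : c * b = a * b * c) (hc : c ^ 8 = 1) : HasFrob X 3 8 := by
  have hb : b ^ 3 = 1 := by
    have h3 : b = c * a * c⁻¹ := by rw [h1]; group
    rw [h3, conj_pow, ha]; group
  have hcomm : Commute a b := hab
  have hpw : ∀ i j : ℕ, (a ^ i * b ^ j) ^ 3 = 1 := by
    intro i j
    rw [(hcomm.pow_pow i j).mul_pow, ← pow_mul, ← pow_mul, mul_comm i, mul_comm j, pow_mul, pow_mul, ha, hb, one_pow,
      one_pow, mul_one]
  have hmul : ∀ i j k l : ℕ, (a ^ i * b ^ j) * (a ^ k * b ^ l) = a ^ (i + k) * b ^ (j + l) := by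
    intro i j k l
    rw [pow_add, pow_add]
    calc (a ^ i * b ^ j) * (a ^ k * b ^ l) = a ^ i * (b ^ j * a ^ k) * b ^ l := by simp only [mul_assoc]
      _ = a ^ i * (a ^ k * b ^ j) * b ^ l := by rw [(hcomm.pow_pow k j).eq]
      _ = _ := by simp only [mul_assoc]
  let T : Subgroup X :=
    { carrier := {x | ∃ i j : ℕ, x = a ^ i * b ^ j}
      one_mem' := ⟨0, 0, by simp⟩
      mul_mem' := by
        rintro _ _ ⟨i, j, rfl⟩ ⟨k, l, rfl⟩
        exact ⟨_, _, hmul i j k l⟩
      inv_mem' := by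
        rintro _ ⟨i, j, rfl⟩
        refine ⟨i + i, j + j, ?_⟩
        rw [inv_eq_iff_mul_eq_one, ← hmul, ← mul_assoc]
        have := hpw i j
        rwa [pow_succ, pow_two] at this }
  have hT : ∀ x, x ∈ T ↔ ∃ i j : ℕ, x = a ^ i * b ^ j := fun x => Iff.rfl
  -- conjugation by `c`
  have hca : ∀ i : ℕ, c * a ^ i * c⁻¹ = b ^ i := by
    intro i
    rw [← conj_pow, h1]; congr 1; group
  have hcb : ∀ i : ℕ, c * b ^ i * c⁻¹ = a ^ i * b ^ i := by
    intro i
    rw [← conj_pow, h2, ← hcomm.mul_pow]; congr 1; group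
  have hfwd : ∀ x ∈ T, c * x * c⁻¹ ∈ T := by
    rintro x ⟨i, j, rfl⟩
    refine ⟨j, i + j, ?_⟩
    calc c * (a ^ i * b ^ j) * c⁻¹ = (c * a ^ i * c⁻¹) * (c * b ^ j * c⁻¹) := by group
      _ = b ^ i * (a ^ j * b ^ j) := by rw [hca, hcb]
      _ = (a ^ 0 * b ^ i) * (a ^ j * b ^ j) := by simp
      _ = _ := by rw [hmul, zero_add]
  have hfw : ∀ (n : ℕ), ∀ x ∈ T, c ^ n * x * (c ^ n)⁻¹ ∈ T := by
    intro n
    induction n with
    | zero => intro x hx; simpa using hx
    | succ n ih =>
      intro x hx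
      have h3 : c ^ (n + 1) * x * (c ^ (n + 1))⁻¹ = c * (c ^ n * x * (c ^ n)⁻¹) * c⁻¹ := by
        rw [pow_succ']; group
      rw [h3]
      exact hfwd _ (ih x hx)
  have hc7 : c ^ 7 = c⁻¹ := by
    rw [eq_inv_iff_mul_eq_one, ← pow_succ]; exact hc
  -- the fourth power inverts
  have hcab : ∀ i j : ℕ, c * (a ^ i * b ^ j) * c⁻¹ = a ^ j * b ^ (i + j) := by
    intro i j
    calc c * (a ^ i * b ^ j) * c⁻¹ = (c * a ^ i * c⁻¹) * (c * b ^ j * c⁻¹) := by group
      _ = b ^ i * (a ^ j * b ^ j) := by rw [hca, hcb]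
      _ = (a ^ 0 * b ^ i) * (a ^ j * b ^ j) := by simp
      _ = _ := by rw [hmul, zero_add]
  have hinv : ∀ x ∈ T, c ^ 4 * x = x * x * c ^ 4 := by
    rintro x ⟨i, j, rfl⟩
    have e : c ^ 4 * (a ^ i * b ^ j) * (c ^ 4)⁻¹ =
        c * (c * (c * (c * (a ^ i * b ^ j) * c⁻¹) * c⁻¹) * c⁻¹) * c⁻¹ := by
      generalize a ^ i * b ^ j = w
      have e0 : c ^ 4 = c * c * c * c := by rw [pow_succ, pow_succ, pow_two]
      rw [e0]
      group
    rw [hcab, hcab, hcab, hcab] at e
    have e1 : a ^ (i + j + (j + (i + j))) = a ^ (i + i) := by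
      have : i + j + (j + (i + j)) = i + i + 3 * j := by ring
      rw [this, pow_add, pow_mul, ha, one_pow, mul_one]
    have e2 : b ^ (j + (i + j) + (i + j + (j + (i + j)))) = b ^ (j + j) := by
      have : j + (i + j) + (i + j + (j + (i + j))) = j + j + 3 * (i + j) := by ring
      rw [this, pow_add, pow_mul, hb, one_pow, mul_one]
    rw [e1, e2, ← hmul] at e
    exact mul_inv_eq_iff_eq_mul.1 e
  have h5 : c ^ 4 * a = a * a * c ^ 4 := hinv a ⟨1, 0, by simp⟩
  have hc4 : c ^ 4 ≠ 1 := by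
    intro h7
    rw [h7, one_mul, mul_one] at h5
    exact ha1 (mul_eq_left.1 h5.symm)
  have hord : orderOf c = 8 := by
    have : orderOf c = 2 ^ (2 + 1) := orderOf_eq_prime_pow (by simpa using hc4) (by simpa using hc)
    simpa using this
  refine ⟨T, c, ?_, ?_, ?_, hord, ?_⟩
  · rintro ⟨x, i, j, rfl⟩
    refine ⟨1, Subtype.ext ?_⟩
    rw [pow_one]
    exact hpw i j
  · intro h7
    have h8 : a ∈ T := ⟨1, 0, by simp⟩
    rw [h7, mem_bot] at h8
    exact ha1 h8
  · rw [mem_normalizer_iff]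
    intro x
    constructor
    · exact hfwd x
    · intro hx
      have h7 := hfw 7 _ hx
      rw [hc7] at h7
      have h8 : c⁻¹ * (c * x * c⁻¹) * c⁻¹⁻¹ = x := by group
      rwa [h8] at h7
  · intro j h0 hj x hx h7
    have h8 : Commute x (c ^ j) := h7
    have h9 : Commute x (c ^ 4) := by
      have e : ∃ m q, j * m = 4 + 8 * q := by
        interval_cases j
        · exact ⟨4, 0, rfl⟩
        · exact ⟨2, 0, rfl⟩
        · exact ⟨4, 1, rfl⟩
        · exact ⟨1, 0, rfl⟩
        · exact ⟨4, 2, rfl⟩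
        · exact ⟨2, 1, rfl⟩
        · exact ⟨4, 3, rfl⟩
      obtain ⟨m, q, hm⟩ := e
      have h10 := h8.pow_right m
      rwa [← pow_mul, hm, pow_add, pow_mul, hc, one_pow, mul_one] at h10
    have h10 := hinv x hx
    rw [← h9.eq] at h10
    have h11 := mul_right_cancel h10
    exact (mul_eq_left.1 h11.symm)

end Cfsg.Agent.H16.Rec

namespace Cfsg.Agent.H16.Rec.McLTab

open Cfsg.Agent.SporadicA.PermTab Cfsg.Agent.McLType.X275 Cfsg.Agent.McLType.Gens Cfsg.Agent.H904.McLCent Subgroup Equiv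
open Cfsg Cfsg.Agent.H58.Rec Cfsg.Agent.H16.Rec

universe u

/-- an element of order 8 -/
def t8 : ℕ := 0x378778a41ba34075909224288881051282447f84519437c4d0cf1a43a4500f11163a05e07a0661f0688421c01201b8a91f41c8030011da1240f90f18e1543103508e3c80a0412041dc738881e00f07e8b51002ac5e846022430620590da3e05f05704a2604f04a2222e41306e1ee1cc1410415c324318e11c42dc718ea1c80707b06c0523b06b83b118208668ee1840743a85d1ca2fc2b1081121c02209214e26c098391b8150550d901c080428cc200228540ce16c32c1c0341cc40c3a0ad20234c288fc18036c078790860880f09f162358518a12162e05307b1201608707109e3ec4382312e2b01f8fe1861f8260b00d4360798041323508390a10c0e82e0d520c0087a89314a2542906b12c2705a01a0620d8308c61760584180805405c3b06616612c0187d016274158600ce06c7c8071080f81902f18a0346407f0bc0602d03002a09c0802e0a6100478500d02342d80c1e80b00286505a138608ba0d20242f8af1021bc090b20f00900c86411c434050da07a13410800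
/-- an element of order 3 -/
def ta : ℕ := 0x2e87f0dd2223dc608c71d42103a0ee1c83cc318650624083b0b70f643c818c31b0354890ae0ce394260f41c22c0850ce1fe3a06d8b90e6380351081620b0600b80d22d88310b1be1743c8c914c0f81c0431122585189c00a07c4585c1340544409309c0104d8c817a2cc868b41021bc628f605e334861011643e4321070c21e02681811e2745605a11c140000e717e0b4610490543b4730d21f40cc718341ea2b45d8321b81dc0b83912009c238140820402a03018c12c6d0601060ac340be150064058f11a20a07e1052081f86586e1de3ac880e219e2f0358720f44245100f1521584a05504c160508d721c1983f8ec1001b08005e0482302b8370943c8380e91bc1f03103514e070098f81041f40d09f15e024438950902480103a1f617c660400762341e88a018084038161a02184881e0e23507e897156264068a507814c2884f1ac1d46504208a088220061482800e8011a62d41b0c405c3647806d052048088460b20805503f0100282d8851300380d82500608c2909e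
/-- its conjugate -/
def tb : ℕ := 0x1243187b20a1c0378680da19c8890c20c1dc3907c0bc4082e8760d420030037004348540c101e2d06c01119e0707b8bf1d231c480130502506e8bd1463000c0f31603b04d0141be2dc77888060040158231dc3b40f83400a2c40d0331c80bc000ba0620c85f0121ae214610e61a02b8548c400c2b4448de18c21c148e11782e41502c0162cc7d00102c314648d50400b47c0931a225c728e71483f0790ca1f63704781e19a2e0170da04e36c060351f201c700d6010364490cb16a2bc7409e1980d85d90e09a1ac2e0740ac1f8818620b02087f86420e15c398fe09e43c408840a01b02a0650f41e42d1080b2198370512124108084e0be1f4308710b6148851102001543f90b1061a43c10d0ea3f4298430701282083b07e0e42604708a108890400881181e84b0741201f03c144064750041862804609601c05c068f611c22c5b02614c3ac4e0241ea0884a815158094640a11a629c430a5132228558911c4074050981e2338550211643d00489d11a3c00d8d400627c7189b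
/-- an element of order 9 -/
def t9 : ℕ := 0x3fc550e31044100b9031204345c90f1c81686407e1ee270460651e41802a85f1302802a0ce1a63787d0590760883a9091944048806c16a3a46a08a1ea3d84183408a0cc1285217c3ac7d8ac124258458ed16c27c468011e2448850fd1c03081c89b01236c4d07017e2882887a1882ac4090c21c2508004f0b82a00880c168200430b30ac224830970a0394218ad0c41b8398ea18639c3090b20e444350ef0ee0103a030028334570dd0d2384810b01742985c0d809a18c2c02820a31c3207b11019c7f0e614e1283e8030140d8130991b41f04f00b08e0640d84b1f01e05d8f413a108508cb18a0f41388e0b61980901a1d83f009824152014478c61080707103216e1fc168f309c0f8188760bc060608cc01c3404a8a41a4244240790da1c46f9081620080f85d19e21c6a8bd1e00741d0461b208c1004410a14c200161dc2941e02e0420a41a82a192358208b21b801c7404c00c1ac6b82b06e15c3403f05e034688a315e2f0390100700b0040151263003784901e3e40f000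

theorem inAll' {L : List ℕ} (h : (L.all fun P => e7.contains P) = true) {S : ℕ} (hS : chkWord 275 S L = true) :
    InG K0 S := by
  refine InG.word (fun P hP => inAll P ?_) hS
  rw [List.all_eq_true] at h
  exact List.contains_iff_mem.1 (h P hP)

theorem in_t8 : InG K0 t8 := inAll' (L := [e_c, e_b, e_a]) (by decide +kernel) (by decide +kernel)

theorem in_ta : InG K0 ta := inAll' (L := [e_y, e_w, e_g, e_w, e_x, e_g, e_w, e_a, e_x, e_g, e_c, e_b, e_a, e_c, e_b, e_a, e_c,
  e_b, e_a, e_c, e_b, e_a, e_g, e_x, e_a, e_w, e_g, e_x, e_w, e_g, e_w, e_y, e_c, e_b, e_a, e_c, e_b, e_a, e_c, e_b, e_a,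
  e_c, e_b, e_a]) (by decide +kernel) (by decide +kernel)

theorem in_t9 : InG K0 t9 := inAll' (L := [e_g, e_x, e_g, e_w, e_a]) (by decide +kernel) (by decide +kernel)

theorem in_tb : InG K0 tb := by
  refine InG.word (L := [e_a, e_b, e_c, ta, e_c, e_b, e_a]) (fun P hP => ?_) (by decide +kernel)
  simp only [List.mem_cons, List.not_mem_nil, or_false] at hP
  rcases hP with rfl | rfl | rfl | rfl | rfl | rfl | rfl
  all_goals first
    | exact in_ta
    | exact inAll _ (by simp [e7])

theorem rel_ab : allB (fun i => Nat.beq (lk ta (lk tb i)) (lk tb (lk ta i))) 275 = true := by decide +kernel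
theorem rel_1 : allB (fun i => Nat.beq (lk t8 (lk ta i)) (lk tb (lk t8 i))) 275 = true := by decide +kernel
theorem rel_2 : allB (fun i => Nat.beq (lk t8 (lk tb i)) (lk ta (lk tb (lk t8 i)))) 275 = true := by decide +kernel
theorem rel_a : allB (fun i => Nat.beq ((lk ta)^[3] i) i) 275 = true := by decide +kernel
theorem rel_8 : allB (fun i => Nat.beq ((lk t8)^[8] i) i) 275 = true := by decide +kernel
theorem rel_9 : allB (fun i => Nat.beq ((lk t9)^[9] i) i) 275 = true := by decide +kernel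

variable {L : Type u} [Group L] {θ : L →* Perm (Fin 275)}

theorem frob_of_rep (R : Rep L θ) : HasFrob L 3 8 := by
  obtain ⟨a, ha⟩ := R.exists_of in_ta
  obtain ⟨b, hb⟩ := R.exists_of in_tb
  obtain ⟨c, hc⟩ := R.exists_of in_t8
  refine hasFrob_three_eight (a := a) (b := b) (c := c) ?_ ?_ ?_ ?_ ?_ ?_
  · apply R.inj
    rw [map_pow, map_one]
    refine Equiv.ext fun i => Fin.ext ?_
    rw [pow_val ha, Perm.one_apply]
    exact Nat.eq_of_beq_eq_true ((allB_iff _ _).1 rel_a i i.2)
  · rintro rfl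
    have h1 := ha 0
    rw [map_one, Perm.one_apply] at h1
    revert h1
    decide +kernel
  · apply R.inj
    refine Equiv.ext fun i => Fin.ext ?_
    rw [map_mul, map_mul, Perm.mul_apply, Perm.mul_apply, ha, hb, hb, ha]
    exact Nat.eq_of_beq_eq_true ((allB_iff _ _).1 rel_ab i i.2)
  · apply R.inj
    refine Equiv.ext fun i => Fin.ext ?_
    rw [map_mul, map_mul, Perm.mul_apply, Perm.mul_apply, hc, ha, hb, hc]
    exact Nat.eq_of_beq_eq_true ((allB_iff _ _).1 rel_1 i i.2)
  · apply R.inj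
    refine Equiv.ext fun i => Fin.ext ?_
    rw [map_mul, map_mul, map_mul, Perm.mul_apply, Perm.mul_apply, Perm.mul_apply, hc, hb, ha, hb, hc]
    exact Nat.eq_of_beq_eq_true ((allB_iff _ _).1 rel_2 i i.2)
  · apply R.inj
    rw [map_pow, map_one]
    refine Equiv.ext fun i => Fin.ext ?_
    rw [pow_val hc, Perm.one_apply]
    exact Nat.eq_of_beq_eq_true ((allB_iff _ _).1 rel_8 i i.2)

theorem nine_of_rep (R : Rep L θ) : HasOrd L 9 := by
  obtain ⟨a, ha⟩ := R.exists_of in_t9
  refine ⟨a, ?_⟩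
  have : Fact (Nat.Prime 3) := ⟨by norm_num⟩
  have h1 : orderOf a = 3 ^ (1 + 1) := by
    apply orderOf_eq_prime_pow
    · intro h2
      have h3 := pow_val ha 3 1
      have h4 : θ a ^ 3 = 1 := by rw [← map_pow]; rw [show (3 : ℕ) = 3 ^ 1 from rfl, h2, map_one]
      rw [h4, Perm.one_apply] at h3
      revert h3
      decide +kernel
    · apply R.inj
      rw [map_pow, map_one]
      refine Equiv.ext fun i => Fin.ext ?_
      rw [pow_val ha, Perm.one_apply]
      exact Nat.eq_of_beq_eq_true ((allB_iff _ _).1 rel_9 i i.2)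
  exact h1

theorem mcl_frob38 (h : Spor.IsoMcL L) : HasFrob L 3 8 := by
  obtain ⟨θ, R⟩ := exists_rep h
  exact frob_of_rep R

theorem mcl_nine (h : Spor.IsoMcL L) : HasOrd L 9 := by
  obtain ⟨θ, R⟩ := exists_rep h
  exact nine_of_rep R

end Cfsg.Agent.H16.Rec.McLTab
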